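import Mathlib.RingTheory.Kaehler.Basic
import Mathlib.Algebra.CharZero.Defs

namespace Groth.Agent.DiagI52

open KaehlerDifferential TensorProduct

variable {k : Type*} [CommRing k] {A : Type*} [CommRing A] [Algebra k A]
  {Q : Type*} [AddCommGroup Q] [Module k Q]

/-- A balanced biadditive function gives a linear map on differentials. -/
theorem exists_linear_of_balanced (φ : A →ₗ[k] A →ₗ[k] Q)
    (h : ∀ a b c : A, φ a (b * c) = φ (a * b) c + φ (a * c) b) :
    ∃ Φ : Ω[A⁄k] →ₗ[k] Q, ∀ a b : A, Φ (a • KaehlerDifferential.D k A b) = φ a b := by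
  let F : (A →₀ A) →ₗ[k] Q := Finsupp.lsum k (fun b => φ.flip b)
  have hF : ∀ b a, F (Finsupp.single b a) = φ a b := fun b a => by simp [F]
  have hone : ∀ a, φ a 1 = 0 := fun a => by
    have := h a 1 1
    simpa using this
  have key : ∀ x ∈ kerTotal k A, ∀ a : A, F (a • x) = 0 := by
    intro x hx
    unfold kerTotal at hx
    induction hx using Submodule.span_induction with
    | mem y hy =>
      intro a
      rcases hy with (⟨⟨b, c⟩, rfl⟩ | ⟨⟨b, c⟩, rfl⟩) | ⟨r, rfl⟩
      · simp [smul_add, smul_sub, hF]
      · simp [smul_add, smul_sub, hF, h a b c]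
      · simp [hF, Algebra.algebraMap_eq_smul_one, hone]
    | zero => simp
    | add y z _ _ hy hz => intro a; simp [smul_add, hy a, hz a]
    | smul b y _ hy => intro a; rw [smul_smul]; exact hy _
  let G : ((A →₀ A) ⧸ (kerTotal k A).restrictScalars k) →ₗ[k] Q :=
    Submodule.liftQ _ F (fun x hx => by simpa using key x hx 1)
  let e : Ω[A⁄k] →ₗ[k] ((A →₀ A) ⧸ (kerTotal k A).restrictScalars k) :=
    (Submodule.Quotient.restrictScalarsEquiv k (kerTotal k A)).symm.toLinearMap ∘ₗ
      (quotKerTotalEquiv k A).symm.toLinearMap.restrictScalars k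
  refine ⟨G ∘ₗ e, fun a b => ?_⟩
  have h1 : (quotKerTotalEquiv k A).symm (a • D k A b) =
      Submodule.Quotient.mk (Finsupp.single b a) := by
    apply (quotKerTotalEquiv k A).injective
    rw [LinearEquiv.apply_symm_apply]
    change _ = Finsupp.linearCombination A (D k A) (Finsupp.single b a)
    rw [Finsupp.linearCombination_single]
  have h2 : e (a • D k A b) = Submodule.Quotient.mk (Finsupp.single b a) := by
    show (Submodule.Quotient.restrictScalarsEquiv k (kerTotal k A)).symm _ = _
    rw [LinearMap.restrictScalars_apply, LinearEquiv.coe_coe, h1]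
    rfl
  rw [LinearMap.comp_apply]
  rw [h2]
  exact hF b a

end Groth.Agent.DiagI52
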