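import Mathlib

/-!
Symmetric tensors in the square of the diagonal ideal of a smooth algebra in characteristic zero are
determined by their products.
-/

set_option autoImplicit false
set_option maxHeartbeats 800000

namespace Groth.Agent.DiagI52

open TensorProduct

universe u v

section Generic

variable {R : Type u} [CommRing R] (I : Ideal R) {n : ℕ} (D : Fin n → R →+ R)
  (hD : ∀ i x y, D i (x * y) = x * D i y + y * D i x) (u : Fin n → ↥I)

/-- Multiplication of two elements of an ideal. -/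
noncomputable def idealMul : (↥I ⊗[R] ↥I) →ₗ[R] R :=
  TensorProduct.lift ((LinearMap.mul R R).compl₁₂ I.subtype I.subtype)

theorem idealMul_tmul (f g : ↥I) : idealMul I (f ⊗ₜ[R] g) = (f : R) * g := rfl

/-- The Euler field of the ideal. -/
def eul (y : R) : ↥I := ∑ i, D i y • u i

theorem eul_coe (y : R) : (eul I D u y : R) = ∑ i, D i y * u i := by
  simp [eul]

include hD in
theorem eul_mul (x y : R) : (eul I D u (x * y) : R) = x * eul I D u y + y * eul I D u x := by
  simp only [eul_coe, hD, Finset.mul_sum, ← Finset.sum_add_distrib]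
  refine Finset.sum_congr rfl fun i _ => ?_
  ring

theorem eul_add (x y : R) : (eul I D u (x + y) : R) = eul I D u x + eul I D u y := by
  simp only [eul_coe, map_add, add_mul, Finset.sum_add_distrib]

theorem eul_sub (x y : R) : (eul I D u (x - y) : R) = eul I D u x - eul I D u y := by
  simp only [eul_coe, map_sub, sub_mul, Finset.sum_sub_distrib]

include hD in
theorem sDer_mem_pow (i : Fin n) : ∀ (m : ℕ) (y : R), y ∈ I ^ (m + 1) → D i y ∈ I ^ m
  | 0, y, _ => by simp
  | m + 1, y, hy => by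
    rw [pow_succ] at hy
    refine Submodule.mul_induction_on hy (fun a ha b hb => ?_) (fun a b ha hb => ?_)
    · rw [hD]
      refine add_mem (Ideal.mul_mem_right _ _ ha) ?_
      rw [pow_succ', ← smul_eq_mul b]
      exact Ideal.mul_mem_mul hb (sDer_mem_pow i m a ha)
    · rw [map_add]; exact add_mem ha hb

variable (hu : ∀ f : ↥I, (eul I D u (f : R) : R) - f ∈ I ^ 2)

include hD hu in
theorem eul_pow : ∀ (m : ℕ) (c : R), c ∈ I ^ m → (eul I D u c : R) - (m : R) * c ∈ I ^ (m + 1)
  | 0, c, _ => by simp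
  | m + 1, c, hc => by
    rw [pow_succ] at hc
    refine Submodule.mul_induction_on hc (fun a ha b hb => ?_) (fun a b ha hb => ?_)
    · have e : (eul I D u (a * b) : R) - ((m + 1 : ℕ) : R) * (a * b) =
          a * ((eul I D u b : R) - b) + ((eul I D u a : R) - (m : R) * a) * b := by
        rw [eul_mul I D hD u]; push_cast; ring
      rw [e]
      refine add_mem ?_ ?_
      · rw [show m + 1 + 1 = m + 2 from rfl, pow_add]
        exact Ideal.mul_mem_mul ha ((hu ⟨b, hb⟩))
      · rw [pow_succ _ (m + 1)]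
        exact Ideal.mul_mem_mul (eul_pow m a ha) hb
    · rw [eul_add]
      convert add_mem ha hb using 1
      ring

include hD hu in
theorem sum_second {m : ℕ} {c : R} (hc : c ∈ I ^ m) :
    (∑ i, ∑ j, D i (D j c) * ((u i : R) * u j)) - ((m : R) ^ 2 - m) * c ∈ I ^ (m + 1) := by
  have h1 : (eul I D u (eul I D u c : R) : R) = (∑ j, D j c * (eul I D u (u j : R) : R)) +
      ∑ i, ∑ j, D i (D j c) * ((u i : R) * u j) := by
    rw [eul_coe I D u (eul I D u c : R)]
    simp only [eul_coe, map_sum, hD, Finset.sum_mul, Finset.mul_sum, add_mul, Finset.sum_add_distrib]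
    rw [Finset.sum_comm]
    congr 1
    · exact Finset.sum_congr rfl fun i _ => Finset.sum_congr rfl fun j _ => by ring
    · exact Finset.sum_congr rfl fun i _ => Finset.sum_congr rfl fun j _ => by ring
  have h2 : (∑ j, D j c * ((eul I D u (u j : R) : R) - u j)) ∈ I ^ (m + 1) := by
    refine sum_mem fun j _ => ?_
    rcases m with _ | m
    · refine Ideal.mul_mem_left _ _ ?_
      simpa using sub_mem (eul I D u (u j : R)).2 (u j).2
    · rw [show m + 1 + 1 = m + 2 from rfl, pow_add]
      exact Ideal.mul_mem_mul (sDer_mem_pow I D hD j m c hc) (hu (u j))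
  have h3 : (eul I D u c : R) - (m : R) * c ∈ I ^ (m + 1) := eul_pow I D hD u hu m c hc
  have h4 := eul_pow I D hD u hu (m + 1) _ h3
  have h5 : (eul I D u ((m : R) * c) : R) = (m : R) * eul I D u c := by
    rw [eul_mul I D hD u]
    have : (eul I D u (m : R) : R) = 0 := by
      have h1 : ∀ i, D i 1 = 0 := fun i => by simpa using hD i 1 1
      have h2 : ∀ i, D i (m : R) = 0 := fun i => by
        rw [← nsmul_one m, map_nsmul, h1, nsmul_zero]
      simp [eul_coe, h2]
    rw [this, mul_zero, add_zero]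
  have h6 : (eul I D u (eul I D u c : R) : R) - (m : R) * eul I D u c ∈ I ^ (m + 1) := by
    rw [eul_sub, h5] at h4
    have h4' := add_mem (Ideal.pow_le_pow_right (Nat.le_succ (m + 1)) h4)
      (Ideal.mul_mem_left (I ^ (m + 1)) ((m + 1 : ℕ) : R) h3)
    simpa using h4'
  have h7 : (∑ i, ∑ j, D i (D j c) * ((u i : R) * u j)) - ((m : R) ^ 2 - m) * c =
      ((eul I D u (eul I D u c : R) : R) - (m : R) * eul I D u c) + (m : R) * ((eul I D u c : R) - (m : R) * c)
        - (∑ j, D j c * ((eul I D u (u j : R) : R) - u j)) - ((eul I D u c : R) - (m : R) * c) := by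
    have e : (∑ j, D j c * ((eul I D u (u j : R) : R) - u j)) =
        (∑ j, D j c * (eul I D u (u j : R) : R)) - (eul I D u c : R) := by
      simp only [mul_sub, Finset.sum_sub_distrib]
      rw [eul_coe I D u c]
    rw [e, h1]
    ring
  rw [h7]
  exact sub_mem (sub_mem (add_mem h6 (Ideal.mul_mem_left _ _ h3)) h2) h3

/-- A second order operator inverse to multiplication on symmetric tensors. -/
noncomputable def lam : R →+ (↥I ⊗[R] ↥I) where
  toFun y := ∑ i, ∑ j, D i (D j y) • (u i ⊗ₜ[R] u j)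
  map_zero' := by simp
  map_add' x y := by simp only [map_add, add_smul, Finset.sum_add_distrib]

theorem swap_smul (a b c d : ↥I) :
    ((a : R) * b) • (c ⊗ₜ[R] d) = ((c : R) * d) • (a ⊗ₜ[R] b) := by
  have h1 : ∀ x y : ↥I, (x : R) • y = (y : R) • x := fun x y => Subtype.ext (mul_comm _ _)
  rw [mul_smul, mul_smul, ← tmul_smul, h1 b d, tmul_smul, smul_smul, mul_comm (a : R), ← smul_smul,
    smul_tmul', h1 a c, ← smul_tmul', smul_smul, smul_smul, mul_comm (d : R)]

theorem move_smul (g : ↥I) (a b : ↥I) : (g : R) • (a ⊗ₜ[R] b) = (b : R) • (a ⊗ₜ[R] g) := by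
  rw [← tmul_smul, ← tmul_smul]
  congr 1
  exact Subtype.ext (mul_comm _ _)

theorem move_smul_left (g : ↥I) (a b : ↥I) : (g : R) • (a ⊗ₜ[R] b) = (a : R) • (g ⊗ₜ[R] b) := by
  rw [smul_tmul', smul_tmul']
  congr 1
  exact Subtype.ext (mul_comm _ _)

theorem smul_eq_tmul_idealMul (r : ↥I) (z : ↥I ⊗[R] ↥I) (hz : idealMul I z ∈ I) :
    (r : R) • z = r ⊗ₜ[R] (⟨idealMul I z, hz⟩ : ↥I) := by
  let μ' : (↥I ⊗[R] ↥I) →ₗ[R] ↥I :=
    (idealMul I).codRestrict I (fun w => by
      induction w using TensorProduct.induction_on with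
      | zero => simp
      | add a b ha hb => rw [map_add]; exact add_mem ha hb
      | tmul a b => rw [idealMul_tmul]; exact Ideal.mul_mem_right _ _ a.2)
  have h : ∀ w, (r : R) • w = r ⊗ₜ[R] μ' w := by
    intro w
    induction w using TensorProduct.induction_on with
    | zero => simp
    | add a b ha hb => simp only [smul_add, map_add, tmul_add, ha, hb]
    | tmul f g =>
      rw [move_smul_left, show μ' (f ⊗ₜ[R] g) = (f : R) • g from Subtype.ext rfl, tmul_smul]
  exact h z

variable (m : ℕ)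

theorem tmul_mem_of_mem_sq {a : ↥I} (ha : (a : R) ∈ I ^ 2) (b : ↥I) :
    a ⊗ₜ[R] b ∈ I • (⊤ : Submodule R (↥I ⊗[R] ↥I)) := by
  have hmem : ∀ (x : R), x ∈ I ^ 2 → ∃ h : x ∈ I, (⟨x, h⟩ : ↥I) ⊗ₜ[R] b ∈
      I • (⊤ : Submodule R (↥I ⊗[R] ↥I)) := by
    intro x hx
    rw [pow_two] at hx
    refine Submodule.mul_induction_on hx (fun p hp q hq => ?_) (fun p q hp hq => ?_)
    · refine ⟨Ideal.mul_mem_right _ _ hp, ?_⟩
      rw [show (⟨p * q, Ideal.mul_mem_right _ _ hp⟩ : ↥I) = p • (⟨q, hq⟩ : ↥I) from rfl, ← smul_tmul']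
      exact Submodule.smul_mem_smul hp trivial
    · obtain ⟨hp, hp'⟩ := hp
      obtain ⟨hq, hq'⟩ := hq
      refine ⟨add_mem hp hq, ?_⟩
      rw [show (⟨p + q, add_mem hp hq⟩ : ↥I) = ⟨p, hp⟩ + ⟨q, hq⟩ from rfl, add_tmul]
      exact add_mem hp' hq'
  obtain ⟨h, h'⟩ := hmem _ ha
  exact h'

include hD hu in
theorem lam_idealMul {z : ↥I ⊗[R] ↥I} (hz : z ∈ (I ^ m) • (⊤ : Submodule R _)) :
    lam I D u (idealMul I z) - (((m : R) ^ 2 + m + 1) • z + ((2 * m + 1 : R)) • TensorProduct.comm R ↥I ↥I z) ∈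
      (I ^ (m + 1)) • (⊤ : Submodule R (↥I ⊗[R] ↥I)) := by
  set M := (I ^ (m + 1)) • (⊤ : Submodule R (↥I ⊗[R] ↥I)) with hM
  refine Submodule.smul_induction_on hz (fun c hc w hw => ?_) (fun x y hx hy => ?_)
  swap
  · have := add_mem hx hy
    simp only [map_add, smul_add] at *
    convert this using 1
    abel
  clear hw
  induction w using TensorProduct.induction_on with
  | zero => simp
  | add x y hx hy =>
    have := add_mem hx hy
    simp only [smul_add, map_add] at *
    convert this using 1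
    abel
  | tmul f g =>
    simp only [map_smul, idealMul_tmul, TensorProduct.comm_tmul, smul_eq_mul]
    let q := M.mkQ
    suffices h : q (lam I D u (c * ((f : R) * g))) =
        q (((m : R) ^ 2 + m + 1) • c • (f ⊗ₜ[R] g) + (2 * m + 1 : R) • c • (g ⊗ₜ[R] f)) from
      (Submodule.Quotient.eq M).1 h
    have hq0 : ∀ (x : R) (w : ↥I ⊗[R] ↥I), x ∈ I ^ (m + 1) → q (x • w) = 0 := fun x w hx =>
      (Submodule.Quotient.mk_eq_zero M).2 (Submodule.smul_mem_smul hx trivial)
    have hqE : ∀ (a b : ↥I), q ((eul I D u c : R) • (a ⊗ₜ[R] b)) = q (((m : R) * c) • (a ⊗ₜ[R] b)) := by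
      intro a b
      rw [map_smul, map_smul, ← sub_eq_zero, ← sub_smul, ← map_smul]
      exact hq0 _ _ (eul_pow I D hD u hu m c hc)
    have hqf : ∀ (p : R) (a b : ↥I), q ((p * c) • (eul I D u (a : R) ⊗ₜ[R] b)) = q ((p * c) • (a ⊗ₜ[R] b)) := by
      intro p a b
      rw [map_smul, map_smul, ← sub_eq_zero, ← smul_sub, ← map_sub, ← map_smul, ← sub_tmul]
      refine (Submodule.Quotient.mk_eq_zero M).2 ?_
      have h2 := tmul_mem_of_mem_sq I (a := eul I D u (a : R) - a) (hu a) b
      have h3 : (p * c) • ((eul I D u (a : R) - a) ⊗ₜ[R] b) ∈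
          (I ^ m) • I • (⊤ : Submodule R (↥I ⊗[R] ↥I)) :=
        Submodule.smul_mem_smul (Ideal.mul_mem_left _ _ hc) h2
      rwa [← Submodule.smul_assoc, smul_eq_mul, ← pow_succ] at h3
    have hqf' : ∀ (p : R) (a b : ↥I), q ((p * c) • (b ⊗ₜ[R] eul I D u (a : R))) = q ((p * c) • (b ⊗ₜ[R] a)) := by
      intro p a b
      have hc1 : ∀ (x : R) (y : ↥I ⊗[R] ↥I), x ∈ I ^ m → y ∈ I • (⊤ : Submodule R (↥I ⊗[R] ↥I)) →
          q (x • y) = 0 := fun x y hx hy => (Submodule.Quotient.mk_eq_zero M).2 (by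
        have h3 : x • y ∈ (I ^ m) • I • (⊤ : Submodule R (↥I ⊗[R] ↥I)) := Submodule.smul_mem_smul hx hy
        rwa [← Submodule.smul_assoc, smul_eq_mul, ← pow_succ] at h3)
      rw [map_smul, map_smul, ← sub_eq_zero, ← smul_sub, ← map_sub, ← map_smul, ← tmul_sub]
      refine hc1 _ _ (Ideal.mul_mem_left _ _ hc) ?_
      have h2 := Submodule.mem_map_of_mem (f := (TensorProduct.comm R ↥I ↥I).toLinearMap)
        (tmul_mem_of_mem_sq I (a := eul I D u (a : R) - a) (hu a) b)
      rw [Submodule.map_smul''] at h2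
      simpa using Submodule.smul_mono le_rfl le_top h2
    have hpair : ∀ x y : R, (∑ i, ∑ j, (D i x * D j y) • (u i ⊗ₜ[R] u j)) =
        eul I D u x ⊗ₜ[R] eul I D u y := by
      intro x y
      simp only [eul, sum_tmul]
      refine Finset.sum_congr rfl fun i _ => ?_
      rw [tmul_sum]
      refine Finset.sum_congr rfl fun j _ => ?_
      rw [tmul_smul, ← smul_tmul', smul_smul, mul_comm]
    have hexp : ∀ i j, D i (D j (c * ((f : R) * g))) =
        D i (D j c) * ((f : R) * g)
        + (D i f * D j c) * (g : R) + (D i g * D j c) * (f : R)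
        + (D i c * D j f) * (g : R) + (D i c * D j g) * (f : R)
        + (c * (g : R)) * D i (D j f) + (c * (f : R)) * D i (D j g)
        + c * (D i f * D j g) + c * (D i g * D j f) := by
      intro i j
      simp only [hD, map_add]
      ring
    change q (∑ i, ∑ j, D i (D j (c * ((f : R) * g))) • (u i ⊗ₜ[R] u j)) = _
    simp only [hexp, add_smul, Finset.sum_add_distrib, map_add]
    have t1 : (∑ i, ∑ j, (D i (D j c) * ((f : R) * g)) • (u i ⊗ₜ[R] u j)) =
        (∑ i, ∑ j, D i (D j c) * ((u i : R) * u j)) • (f ⊗ₜ[R] g) := by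
      simp only [Finset.sum_smul]
      refine Finset.sum_congr rfl fun i _ => Finset.sum_congr rfl fun j _ => ?_
      rw [mul_smul, swap_smul, ← mul_smul]
    have hS : q ((∑ i, ∑ j, D i (D j c) * ((u i : R) * u j)) • (f ⊗ₜ[R] g)) =
        q ((((m : R) ^ 2 - m) * c) • (f ⊗ₜ[R] g)) := by
      rw [map_smul, map_smul, ← sub_eq_zero, ← sub_smul, ← map_smul]
      exact hq0 _ _ (sum_second I D hD u hu hc)
    have t2 : ∀ x y : R, ∀ h : ↥I, (∑ i, ∑ j, ((D i x * D j y) * (h : R)) • (u i ⊗ₜ[R] u j)) =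
        (h : R) • (eul I D u x ⊗ₜ[R] eul I D u y) := by
      intro x y h
      rw [← hpair, Finset.smul_sum]
      refine Finset.sum_congr rfl fun i _ => ?_
      rw [Finset.smul_sum]
      refine Finset.sum_congr rfl fun j _ => ?_
      rw [smul_smul, mul_comm (h : R)]
    have t3 : ∀ (h : ↥I) (x : Fin n → Fin n → R),
        q (∑ i, ∑ j, ((c * (h : R)) * x i j) • (u i ⊗ₜ[R] u j)) = 0 := by
      intro h x
      simp only [map_sum]
      refine Finset.sum_eq_zero fun i _ => Finset.sum_eq_zero fun j _ => hq0 _ _ ?_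
      rw [pow_succ]
      exact Ideal.mul_mem_right _ _ (Ideal.mul_mem_mul hc h.2)
    have t4 : ∀ x y : R, (∑ i, ∑ j, (c * (D i x * D j y)) • (u i ⊗ₜ[R] u j)) =
        c • (eul I D u x ⊗ₜ[R] eul I D u y) := by
      intro x y
      rw [← hpair, Finset.smul_sum]
      refine Finset.sum_congr rfl fun i _ => ?_
      rw [Finset.smul_sum]
      refine Finset.sum_congr rfl fun j _ => ?_
      rw [smul_smul]
    have a1 : q ((g : R) • (eul I D u (f : R) ⊗ₜ[R] eul I D u c)) = q (((m : R) * c) • (f ⊗ₜ[R] g)) := by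
      rw [move_smul, hqE, hqf]
    have a2 : q ((f : R) • (eul I D u (g : R) ⊗ₜ[R] eul I D u c)) = q (((m : R) * c) • (g ⊗ₜ[R] f)) := by
      rw [move_smul, hqE, hqf]
    have a3 : q ((g : R) • (eul I D u c ⊗ₜ[R] eul I D u (f : R))) = q (((m : R) * c) • (g ⊗ₜ[R] f)) := by
      rw [move_smul_left, hqE, hqf']
    have a4 : q ((f : R) • (eul I D u c ⊗ₜ[R] eul I D u (g : R))) = q (((m : R) * c) • (f ⊗ₜ[R] g)) := by
      rw [move_smul_left, hqE, hqf']
    have a5 : ∀ a b : ↥I, q (c • (eul I D u (a : R) ⊗ₜ[R] eul I D u (b : R))) = q (c • (a ⊗ₜ[R] b)) := by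
      intro a b
      have e1 := hqf 1 a (eul I D u (b : R))
      have e2 := hqf' 1 b a
      simp only [one_mul] at e1 e2
      rw [e1, e2]
    rw [t1, t2, t2, t2, t2, t3, t3, t4, t4, hS, a1, a2, a3, a4, a5, a5]
    simp only [smul_smul, add_mul, sub_mul, add_smul, sub_smul, map_add, map_sub, map_smul, one_mul, two_mul]
    module

include hD hu in
theorem eq_zero_of_symm [IsNoetherianRing R] (hk : ∀ j : ℕ, IsUnit ((j + 1 : ℕ) : R))
    (z : ↥I ⊗[R] ↥I) (hsym : TensorProduct.comm R ↥I ↥I z = z) (hz : idealMul I z = 0) : z = 0 := by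
  have hmem : ∀ j : ℕ, z ∈ (I ^ j) • (⊤ : Submodule R (↥I ⊗[R] ↥I)) := by
    intro j
    induction j with
    | zero => simp
    | succ j ih =>
      have h := lam_idealMul I D hD u hu j ih
      rw [hz, map_zero, hsym, ← add_smul] at h
      replace h := (Submodule.sub_mem_iff_right _ (zero_mem _)).1 h
      have e : ((j : R) ^ 2 + j + 1 + (2 * j + 1)) = ((j + 1 : ℕ) : R) * ((j + 1 + 1 : ℕ) : R) := by
        push_cast; ring
      rw [e] at h
      exact (Submodule.smul_mem_iff_of_isUnit _ ((hk j).mul (hk (j + 1)))).1 h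
  haveI : Module.Finite R ↥I := Module.Finite.iff_fg.mpr (IsNoetherian.noetherian I)
  obtain ⟨r, hr⟩ := (Ideal.mem_iInf_smul_pow_eq_bot_iff I z).1 (Submodule.mem_iInf _ |>.2 hmem)
  rw [← hr, smul_eq_tmul_idealMul I r z (by rw [hz]; exact zero_mem _)]
  rw [show (⟨idealMul I z, _⟩ : ↥I) = 0 from Subtype.ext hz, tmul_zero]


end Generic

variable {k : Type u} [CommRing k] {A : Type v} [CommRing A] [Algebra k A]

theorem lTensor_leibniz (d : Derivation k A A) (x y : A ⊗[k] A) :
    d.toLinearMap.lTensor A (x * y) = x * d.toLinearMap.lTensor A y + y * d.toLinearMap.lTensor A x := by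
  induction x using TensorProduct.induction_on with
  | zero => simp
  | add a b ha hb => simp only [add_mul, map_add, mul_add, ha, hb]; abel
  | tmul a b =>
    induction y using TensorProduct.induction_on with
    | zero => simp
    | add c d' hc hd => simp only [mul_add, map_add, add_mul, hc, hd]; abel
    | tmul c e =>
      simp [Algebra.TensorProduct.tmul_mul_tmul, tmul_add, mul_comm c a]

/-- The main statement for smooth algebras. -/
theorem eq_zero_of_comm_eq_self {k : Type u} [Field k] [CharZero k] {A : Type v} [CommRing A] [Algebra k A]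
    [Algebra.Smooth k A]
    (z : ↥(KaehlerDifferential.ideal k A) ⊗[A ⊗[k] A] ↥(KaehlerDifferential.ideal k A))
    (hsym : TensorProduct.comm _ _ _ z = z) (hz : idealMul _ z = 0) : z = 0 := by
  haveI : IsNoetherianRing A := Algebra.FiniteType.isNoetherianRing k A
  haveI : IsNoetherianRing (A ⊗[k] A) := Algebra.FiniteType.isNoetherianRing A (A ⊗[k] A)
  obtain ⟨N, F, G, -, -, hFG⟩ := Module.Finite.exists_comp_eq_id_of_projective A (Ω[A⁄k])
  classical
  choose u hu' using fun i : Fin N =>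
    Ideal.toCotangent_surjective (KaehlerDifferential.ideal k A) (F (Pi.single i 1))
  let ξ : Fin N → Derivation k A A := fun i => ((LinearMap.proj i).comp G).compDer (KaehlerDifferential.D k A)
  let D : Fin N → (A ⊗[k] A) →+ (A ⊗[k] A) := fun i => ((ξ i).toLinearMap.lTensor A).toAddMonoidHom
  have hD : ∀ i x y, D i (x * y) = x * D i y + y * D i x := fun i => lTensor_leibniz (ξ i)
  have hgen : ∀ a : A, (eul _ D u ((1 : A) ⊗ₜ[k] a - a ⊗ₜ[k] (1 : A)) : A ⊗[k] A) -
      ((1 : A) ⊗ₜ[k] a - a ⊗ₜ[k] (1 : A)) ∈ KaehlerDifferential.ideal k A ^ 2 := by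
    intro a
    have hs : ∀ i, D i ((1 : A) ⊗ₜ[k] a - a ⊗ₜ[k] (1 : A)) - ξ i a ⊗ₜ[k] (1 : A) ∈
        KaehlerDifferential.ideal k A := fun i => by
      have : D i ((1 : A) ⊗ₜ[k] a - a ⊗ₜ[k] (1 : A)) = (1 : A) ⊗ₜ[k] ξ i a := by simp [D]
      rw [this]
      exact KaehlerDifferential.one_smul_sub_smul_one_mem_ideal k _
    have h1 : (eul _ D u ((1 : A) ⊗ₜ[k] a - a ⊗ₜ[k] (1 : A)) : A ⊗[k] A) -
        ∑ i, (ξ i a ⊗ₜ[k] (1 : A)) * (u i : A ⊗[k] A) ∈ KaehlerDifferential.ideal k A ^ 2 := by
      rw [eul_coe, ← Finset.sum_sub_distrib]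
      refine sum_mem fun i _ => ?_
      rw [← sub_mul, pow_two]
      exact Ideal.mul_mem_mul (hs i) (u i).2
    let v : ↥(KaehlerDifferential.ideal k A) := ∑ i, (ξ i a ⊗ₜ[k] (1 : A)) • u i
    let d : ↥(KaehlerDifferential.ideal k A) :=
      ⟨(1 : A) ⊗ₜ[k] a - a ⊗ₜ[k] (1 : A), KaehlerDifferential.one_smul_sub_smul_one_mem_ideal k a⟩
    have h2 : (KaehlerDifferential.ideal k A).toCotangent v = (KaehlerDifferential.ideal k A).toCotangent d := by
      rw [show (KaehlerDifferential.ideal k A).toCotangent d = KaehlerDifferential.D k A a from rfl]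
      simp only [v, map_sum, map_smul]
      conv_rhs => rw [show KaehlerDifferential.D k A a = F (G (KaehlerDifferential.D k A a)) from
        (LinearMap.congr_fun hFG _).symm, pi_eq_sum_univ' (G (KaehlerDifferential.D k A a)), map_sum]
      refine Finset.sum_congr rfl fun i _ => ?_
      rw [map_smul]
      exact (congrArg _ (hu' i)).trans
        (algebraMap_smul (A ⊗[k] A) (G (KaehlerDifferential.D k A a) i) (F (Pi.single i 1)))
    rw [Ideal.toCotangent_eq] at h2
    have h3 := add_mem h1 h2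
    simpa [v, d] using h3
  refine eq_zero_of_symm _ D hD u (fun f => ?_) (fun j => ?_) z hsym hz
  · obtain ⟨f, hf⟩ := f
    show (eul _ D u f : A ⊗[k] A) - f ∈ _
    rw [← KaehlerDifferential.span_range_eq_ideal] at hf
    induction hf using Submodule.span_induction with
    | mem x hx => obtain ⟨a, rfl⟩ := hx; exact hgen a
    | zero => simp [eul_coe]
    | add x y _ _ hx hy =>
      rw [eul_add]
      convert add_mem hx hy using 1
      ring
    | smul p x hx' hx =>
      rw [smul_eq_mul, eul_mul _ D hD, add_sub_right_comm, ← mul_sub]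
      refine add_mem (Ideal.mul_mem_left _ _ hx) ?_
      rw [pow_two]
      exact Ideal.mul_mem_mul (KaehlerDifferential.span_range_eq_ideal k A ▸ hx') (eul _ D u p).2
  · rw [← map_natCast (algebraMap k (A ⊗[k] A))]
    exact (IsUnit.mk0 _ (Nat.cast_ne_zero.2 (Nat.succ_ne_zero j))).map _

end Groth.Agent.DiagI52
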